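import Cfsg.Agent.H89.Gen.Layer
import Cfsg.Agent.H59.TransportNormal

/-!
In a quasisimple system a normal subsystem is over the whole group or over a central subgroup.
-/

set_option autoImplicit false
set_option linter.style.haveILetI false
set_option linter.unusedSectionVars false
set_option maxHeartbeats 1000000

namespace Cfsg.Agent.Signalizer.FusComp

open Cfsg Cfsg.FusionSystem Cfsg.Agent.FusionSys Cfsg.Agent.H91.CentFocal
open Cfsg.Agent.H89 (isCentral_center stronglyClosed_of_normal KerEq factorSystem isFactorSystem_factorSystem mem_of_stronglyClosed)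
open Cfsg.Agent.H89.Lift (th th_eq tw tw_apply mem_pre th_mem_img mem_img)
open Cfsg.Agent.H89.Gen (closed_sub tw_invariant isNormalIn_self)
open Cfsg.FusionSystem (centralizerIn normalizerIn)

universe u

variable {Ω : Type u} [Group Ω] {S W : Subgroup Ω} [Finite S] {F : FusionSystem S} {p : ℕ} [Fact p.Prime]

/-- In a quasisimple system a normal subsystem is over the whole group or over a central subgroup. -/
theorem eq_top_or_le_center (hS : IsPGroup p S) (hq : F.Quasisimple p) {N : FusionSystem W}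
    (hN : N.IsNormalIn F p) : W = S ∨ W ≤ F.center := by
  obtain ⟨hF, hhyp, hsimp⟩ := hq
  have hcen := isCentral_center F
  set Z := F.center with hZdef
  have hZS : Z ≤ S := hcen.1
  have hR : F.StronglyClosed Z :=
    stronglyClosed_of_normal (H89.ComponentFix.isNormal_of_isCentral hcen)
  set θ := QuotientGroup.mk' (Z.subgroupOf S)
  have hθ : KerEq θ Z := fun s => QuotientGroup.eq_one_iff s
  have hrange : θ.range = (⊤ : Subgroup (S ⧸ Z.subgroupOf S)) :=
    MonoidHom.range_eq_top.2 (QuotientGroup.mk'_surjective _)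
  set S' : Subgroup (S ⧸ Z.subgroupOf S) := ⊤ with hS'
  set E : FusionSystem S' := factorSystem θ hθ hR hrange
  have hE : F.IsFactorSystem Z θ E := isFactorSystem_factorSystem θ hθ hR hrange
  obtain ⟨hEs, -, hEsimp⟩ := hsimp E hE
  haveI : Finite S' := hrange ▸ Finite.of_surjective _ θ.rangeRestrict_surjective
  have hs : H89.Lift.Setup p F θ Z E E := ⟨hS, hF, hcen, hE, isNormalIn_self hEs⟩
  have hW : F.StronglyClosed W := hN.1.2.2.2.1
  have hWS := hW.1
  have hNsub := hN.1.2.2.1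
  haveI : Finite W := finite_of_le hWS
  have hWp : IsPGroup p W := hS.to_le hWS
  -- the image of `N`
  set θW : W →* S ⧸ Z.subgroupOf S := θ.comp (Subgroup.inclusion hWS) with hθW
  have hθW1 : KerEq θW (Z ⊓ W) := fun s => by
    show θ (Subgroup.inclusion hWS s) = 1 ↔ _
    rw [hθ]
    exact ⟨fun h => ⟨h, s.2⟩, fun h => h.1⟩
  have hth : ∀ x ∈ W, th θW x = th θ x := fun x hx => by
    rw [th_eq θW hx, th_eq θ (hWS hx)]; rfl
  set T := θW.range with hT
  have hTmem : ∀ {y}, y ∈ T ↔ ∃ x ∈ W, th θ x = y := fun {y} => by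
    constructor
    · rintro ⟨⟨x, hx⟩, rfl⟩
      exact ⟨x, hx, by rw [← hth x hx, th_eq θW hx]⟩
    · rintro ⟨x, hx, rfl⟩
      exact ⟨⟨x, hx⟩, by rw [← hth x hx, th_eq θW hx]⟩
  have hRN : N.StronglyClosed (Z ⊓ W) := stronglyClosed_iff.2 ⟨inf_le_right, fun R f hR' hf x hx =>
    ⟨mem_of_stronglyClosed hR (isMap_of_sub hNsub hf) hx (hR' hx).1, hf.mem_S hx⟩⟩
  have hcenN : N.IsCentral (Z ⊓ W) := isCentral_of_singleton hWp hN.1.1 inf_le_right
    fun P f hf x hx hxZ => fix_of_isCentral hcen (isMap_of_sub hNsub hf) hx hxZ.1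
  set Nb : FusionSystem T := factorSystem θW hθW1 hRN rfl
  have hNb : N.IsFactorSystem (Z ⊓ W) θW Nb := isFactorSystem_factorSystem θW hθW1 hRN rfl
  have hNbs : Nb.IsSaturated p := H49.isSaturated_factor hWp hN.1.1 hRN hNb
  have hs' : H89.Lift.Setup p N θW (Z ⊓ W) Nb Nb := ⟨hWp, hN.1.1, hcenN, hNb, isNormalIn_self hNbs⟩
  haveI : Finite T := Finite.of_surjective _ θW.rangeRestrict_surjective
  -- a map of `Nb` is induced by a map of `N`
  have hlift : ∀ {P' : Subgroup (S ⧸ Z.subgroupOf S)} {f'}, IsMap Nb P' f' →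
      ∃ g, IsMap N (preimageAlong θW P') g ∧ ∀ x ∈ preimageAlong θW P', th θ (g x) = f' (th θ x) :=
    fun {P' f'} h => by
    obtain ⟨g, hg, hge⟩ := hs'.exists_lift h
    exact ⟨g, hg, fun x hx => by rw [← hth _ (hg.mem_S hx), hge x hx, hth x (mem_pre.1 hx).1]⟩
  have hind : ∀ {P : Subgroup Ω} {g : Ω → Ω}, IsMap N P g → ∀ {P' : Subgroup (S ⧸ Z.subgroupOf S)} {f'},
      (∀ y ∈ P', ∃ x ∈ P, th θ x = y) → (∀ x ∈ P, th θ x ∈ P' → th θ (g x) = f' (th θ x)) →
      IsMap Nb P' f' := fun {P g} hg {P' f'} hex he => by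
    obtain ⟨k, hk, hke⟩ := hs'.exists_induced hg
    have hle : P' ≤ imageAlong θW P := fun y hy => by
      obtain ⟨x, hx, rfl⟩ := hex y hy
      rw [← hth x (hg.le hx)]
      exact th_mem_img hg.le hx
    refine (hk.mono hle).congr fun y hy => ?_
    obtain ⟨x, hx, rfl⟩ := hex y hy
    rw [← he x hx hy, ← hth _ (hg.mem_S hx), hke x hx, hth x (hg.le hx)]
  have hsubE : Nb.IsSubsystemOf E := isSubsystemOf_iff_isMap.2 fun P' f' hf' => by
    obtain ⟨g, hg, hge⟩ := hlift hf'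
    obtain ⟨k, hk, hke⟩ := hs.exists_induced (isMap_of_sub hNsub hg)
    have hex : ∀ y ∈ P', ∃ x ∈ preimageAlong θW P', th θ x = y := fun y hy => by
      obtain ⟨x, hx, rfl⟩ := hTmem.1 (hf'.le hy)
      exact ⟨x, mem_pre.2 ⟨hx, (hth x hx).symm ▸ hy⟩, rfl⟩
    have hle : P' ≤ imageAlong θ (preimageAlong θW P') := fun y hy => by
      obtain ⟨x, hx, rfl⟩ := hex y hy
      exact th_mem_img ((H89.preimageAlong_le θW P').trans hWS) hx
    refine (hk.mono hle).congr fun y hy => ?_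
    obtain ⟨x, hx, rfl⟩ := hex y hy
    rw [← hge x hx, hke x hx]
  have hTc : E.StronglyClosed T := by
    refine stronglyClosed_iff.2 ⟨le_top, fun P' f' hP' hf' y hy => ?_⟩
    obtain ⟨g, hg, hge⟩ := hs.exists_lift hf'
    obtain ⟨x, hx, rfl⟩ := hTmem.1 (hP' hy)
    have hxp : x ∈ preimageAlong θ P' := mem_pre.2 ⟨hWS hx, hy⟩
    rw [← hge x hxp]
    exact hTmem.2 ⟨g x, mem_of_stronglyClosed hW hg hxp hx, rfl⟩
  have hinv : Nb.IsInvariantIn E := by
    refine H59.Transp.isInvariant_iff_isMap.2 ⟨hsubE, hTc, fun P' f' hf' a ha => ?_,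
      fun P' f' hP' hf' => ?_⟩
    · obtain ⟨g, hg, hge⟩ := hlift hf'
      obtain ⟨A, hA, hAe⟩ := hs.exists_iso_lift (isIso_autMap le_top ha)
      have hWA : W ≤ preimageAlong θ T := fun x hx =>
        mem_pre.2 ⟨hWS hx, hTmem.2 ⟨x, hx, rfl⟩⟩
      obtain ⟨α, hα, hαe⟩ := (isIso_of_mapsTo (hA.isMap.mono hWA) fun x hx =>
        mem_of_stronglyClosed hW (hA.isMap.mono hWA) hx hx).exists_aut
      have hαt : ∀ x ∈ W, th θ (autMap α x) = autMap a (th θ x) := fun x hx => by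
        rw [hαe x hx, hAe x (hWA hx)]
      have hαm : IsMap F W (autMap α) := (mem_autGroup_iff hWS).1 hα
      have hχ := tw_invariant hN.1.2.2 hW le_rfl hα hg.le hg
      have ham : IsMap E T (autMap a) := (mem_autGroup_iff le_top).1 ha
      refine hind hχ (fun z hz => ?_) fun z hz _ => ?_
      · obtain ⟨y, hy, rfl⟩ := (ham.mono hf'.le).mem_imgSub.1 hz
        obtain ⟨x, hx, rfl⟩ := hTmem.1 (hf'.le hy)
        exact ⟨autMap α x, (hαm.mono hg.le).mem_imgSub.2
          ⟨x, mem_pre.2 ⟨hx, (hth x hx).symm ▸ hy⟩, rfl⟩, hαt x hx⟩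
      · obtain ⟨x, hx, rfl⟩ := (hαm.mono hg.le).mem_imgSub.1 hz
        rw [tw_apply α g (hg.le hx), hαt _ (hg.mem_S hx), hαt x (hg.le hx), hge x hx]
        simp only [Function.comp_apply]
        rw [S5114.inv_autMap_apply a (hTmem.2 ⟨x, hg.le hx, rfl⟩)]
    · obtain ⟨g, hg, hge⟩ := hs.exists_lift hf'
      have hgi : IsMap F (preimageAlong θ P' ⊓ W) g := hg.mono inf_le_left
      obtain ⟨A, hA, d, hd, hde⟩ := frattini_map hN.1.2.2 inf_le_right hgi
      have hAm : IsMap F W (autMap A) := (mem_autGroup_iff hWS).1 hA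
      obtain ⟨k, hk, hke⟩ := hs.exists_induced hAm
      have hWT : T ≤ imageAlong θ W := fun y hy => by
        obtain ⟨x, hx, rfl⟩ := hTmem.1 hy
        exact th_mem_img hWS hx
      obtain ⟨a, ha, hae⟩ := (isIso_of_mapsTo (hk.mono hWT) fun y hy => by
        obtain ⟨x, hx, rfl⟩ := hTmem.1 hy
        rw [← hke x hx]
        exact hTmem.2 ⟨_, autMap_mem A hx, rfl⟩).exists_aut
      have hex : ∀ y ∈ P', ∃ x ∈ preimageAlong θ P' ⊓ W, th θ x = y := fun y hy => by
        obtain ⟨x, hx, rfl⟩ := hTmem.1 (hP' hy)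
        exact ⟨x, ⟨mem_pre.2 ⟨hWS hx, hy⟩, hx⟩, rfl⟩
      refine ⟨a, ha, autMap a⁻¹ ∘ f', hind hd hex fun x hx _ => ?_, fun y hy => ?_⟩
      · rw [Function.comp_apply, ← hge x hx.1, hde x hx, hke _ (hd.mem_S hx),
          ← hae _ (hTmem.2 ⟨_, hd.mem_S hx, rfl⟩),
          S5114.inv_autMap_apply a (hTmem.2 ⟨_, hd.mem_S hx, rfl⟩)]
      · rw [Function.comp_apply]
        exact (autMap_inv_apply a ((stronglyClosed_iff.1 hTc).2 P' f' hP' hf' y hy)).symm
  have hTp : IsPGroup p T := hWp.of_surjective _ θW.rangeRestrict_surjective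
  have hwn : Nb.IsWeaklyNormalIn E p := ⟨hNbs, hEs, hinv⟩
  have hnorm := H89.ResidualNormal.isNormalIn hs.isPGroup_S' hwn
    (S5140.isSaturated_residual hTp hNbs) (fun _ => Set.Subset.rfl) (fun _ => Set.Subset.rfl)
  rcases hEsimp T _ hnorm with h | ⟨h, -⟩
  · refine Or.inr fun x hx => (hs.th_eq_one (hWS hx)).1 ?_
    exact Subgroup.mem_bot.1 (h ▸ hTmem.2 ⟨x, hx, rfl⟩)
  · left
    refine le_antisymm hWS fun y hy => ?_
    rw [← hhyp] at hy
    refine (Subgroup.closure_le _).2 ?_ hy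
    rintro _ ⟨P, α, x, hP, -, rfl⟩
    rw [← autMap_coe]
    set f := autMap (α : MulAut P)
    have hf : IsMap F P f := (mem_autGroup_iff hP).1 α.2
    obtain ⟨g, hg, hge, hgZ⟩ := (isCentral_iff.1 hcen).2 P f hf
    obtain ⟨w, hw, hwe⟩ := hTmem.1 (h.symm ▸ Subgroup.mem_top (th θ (x : Ω)) : th θ (x : Ω) ∈ T)
    set z := w⁻¹ * (x : Ω) with hz
    have hzZ : z ∈ Z := by
      refine (hs.th_eq_one (S.mul_mem (S.inv_mem (hWS hw)) (hP x.2))).1 ?_
      rw [H89.Lift.th_diff (hWS hw) (hP x.2), hwe, inv_mul_cancel]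
    have hxd : (x : Ω) ∈ P ⊔ Z := Subgroup.mem_sup_left x.2
    have hzd : z ∈ P ⊔ Z := Subgroup.mem_sup_right hzZ
    have hwd : w ∈ P ⊔ Z := by
      rw [show w = (x : Ω) * z⁻¹ by rw [hz]; group]
      exact mul_mem hxd (inv_mem hzd)
    have hgw : g w ∈ W := mem_of_stronglyClosed hW hg hwd hw
    have hfx : f x = g w * z := by
      rw [← hge x x.2, show (x : Ω) = w * z by rw [hz, mul_inv_cancel_left], hg.map_mul hwd hzd,
        hgZ z hzZ]
    have hd : w⁻¹ * g w ∈ W := W.mul_mem (W.inv_mem hw) hgw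
    have hzc := Subgroup.mem_centralizer_iff.1 (F.center_le_centralizer hzZ) _ (hWS hd)
    show (x : Ω)⁻¹ * f x ∈ W
    rw [hfx, show (x : Ω) = w * z by rw [hz, mul_inv_cancel_left],
      show (w * z)⁻¹ * (g w * z) = z⁻¹ * (w⁻¹ * g w * z) by group, hzc, inv_mul_cancel_left]
    exact hd

end Cfsg.Agent.Signalizer.FusComp
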