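import Cfsg.Agent.Signalizer.FusComp.Step
import Cfsg.Agent.Signalizer.FusComp.Base

/-!
A component lies in a normal subsystem or all its maps extend fixing that subsystem's group; two normal
subsystems with central intersection generating the whole group share no component outside both.
-/

set_option autoImplicit false
set_option linter.style.haveILetI false
set_option linter.unusedSectionVars false

namespace Cfsg.Agent.Signalizer.FusComp

open Cfsg Cfsg.FusionSystem Cfsg.Agent.FusionSys Cfsg.Agent.H91.CentFocal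
open Cfsg.Agent.H89 (isCentral_center mem_of_stronglyClosed)
open Cfsg.Agent.H89.ComponentFix (Fixes subnormal_sub)
open Cfsg.Agent.H89.Gen (exists_meet le_of_sub le_of_normal_quasisimple)
open Cfsg.FusionSystem (centralizerIn normalizerIn)

universe u

variable {Ω : Type u} [Group Ω] {S : Subgroup Ω} [Finite S] {F : FusionSystem S} {p : ℕ} [Fact p.Prime]

/-- A component lies over the group of a normal subsystem, or all its maps extend fixing that group. -/
theorem le_or_fixes (hS : IsPGroup p S) {U : Subgroup Ω} {C : FusionSystem U}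
    (hC : C.IsSubnormalIn F p) (hq : C.Quasisimple p) {W : Subgroup Ω} {N : FusionSystem W}
    (hN : N.IsNormalIn F p) : U ≤ W ∨ ∀ P f, IsMap C P f → Fixes F W P f := by
  have main : ∀ {U S : Subgroup Ω} {C : FusionSystem U} {F : FusionSystem S} {p' : ℕ},
      C.IsSubnormalIn F p' → p' = p → C.Quasisimple p → Finite S → IsPGroup p S →
        ∀ {W : Subgroup Ω} {N : FusionSystem W}, N.IsNormalIn F p →
          U ≤ W ∨ ∀ P f, IsMap C P f → Fixes F W P f := by
    intro U S C F p' h
    induction h with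
    | refl G p' =>
      intro hp hq hfin hS W N hN
      subst hp
      haveI := hfin
      rcases eq_top_or_le_center hS hq hN with rfl | hle
      · exact Or.inl le_rfl
      · refine Or.inr fun P f hf => ?_
        obtain ⟨g, hg, hge, hgZ⟩ := (isCentral_iff.1 (isCentral_center G)).2 P f hf
        exact ⟨g, hg.mono (sup_le_sup_left hle P), hge, fun q hq' => hgZ q (hle hq')⟩
    | step hCD hDG ih =>
      intro hp hq hfin hS W N hN
      subst hp
      haveI := hfin
      have hVS := hDG.1.2.2.2.1.1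
      haveI := finite_of_le hVS
      obtain ⟨M, ⟨-, hMN, hMD⟩, -⟩ := exists_meet hS hN hDG
      rcases ih rfl hq (finite_of_le hVS) (hS.to_le hVS) hMD with h | h
      · exact Or.inl (h.trans inf_le_left)
      · exact Or.inr fun P f hf => fixes_step hS hDG.1.2.1 hDG hCD hq hN.1.2.2.2.1 h hf
  exact main hC rfl hq inferInstance hS hN

/-- A subnormal quasisimple subsystem over a subgroup of a normal subsystem's group is subnormal in it. -/
theorem subnormal_of_le (hS : IsPGroup p S) {U : Subgroup Ω} {C : FusionSystem U}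
    (hC : C.IsSubnormalIn F p) (hq : C.Quasisimple p) {W : Subgroup Ω} {N : FusionSystem W}
    (hN : N.IsNormalIn F p) (hUW : U ≤ W) : C.IsSubnormalIn N p := by
  have main : ∀ {U S : Subgroup Ω} {C : FusionSystem U} {F : FusionSystem S} {p' : ℕ},
      C.IsSubnormalIn F p' → p' = p → C.Quasisimple p → Finite S → IsPGroup p S →
        ∀ {W : Subgroup Ω} {N : FusionSystem W}, N.IsNormalIn F p → U ≤ W → C.IsSubnormalIn N p := by
    intro U S C F p' h
    induction h with
    | refl G p' =>
      intro hp hq hfin hS W N hN hUW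
      subst hp
      haveI := hfin
      obtain rfl := le_antisymm hN.1.2.2.2.1.1 hUW
      obtain rfl := le_antisymm' (fun P => hN.1.2.2.1 P) (fun P => le_of_normal_quasisimple hS hq hN P)
      exact IsSubnormalIn.refl _ _
    | step hCD hDG ih =>
      intro hp hq hfin hS W N hN hUW
      subst hp
      haveI := hfin
      have hVS := hDG.1.2.2.2.1.1
      haveI := finite_of_le hVS
      obtain ⟨M, ⟨-, hMN, hMD⟩, -⟩ := exists_meet hS hN hDG
      exact IsSubnormalIn.step
        (ih rfl hq (finite_of_le hVS) (hS.to_le hVS) hMD (le_inf hUW (le_of_sub (subnormal_sub hCD)))) hMN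
  exact main hC rfl hq inferInstance hS hN hUW

/-- A component lies over the group of one of two commuting normal subsystems generating the whole group
whose intersection is fixed by all maps. -/
theorem le_left_or_right (hS : IsPGroup p S) {U : Subgroup Ω} {C : FusionSystem U}
    (hC : C.IsSubnormalIn F p) (hq : C.Quasisimple p) {S₁ S₂ : Subgroup Ω} {F₁ : FusionSystem S₁}
    {F₂ : FusionSystem S₂} (h₁ : F₁.IsNormalIn F p) (h₂ : F₂.IsNormalIn F p)
    (hdec : ∀ s ∈ S, ∃ a ∈ S₁, ∃ b ∈ S₂, a * b = s)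
    (hcent : ∀ z ∈ S₁ ⊓ S₂, ∀ s ∈ S, s * z = z * s) : U ≤ S₁ ∨ U ≤ S₂ := by
  rcases le_or_fixes hS hC hq h₁ with h | hfix₁
  · exact Or.inl h
  rcases le_or_fixes hS hC hq h₂ with h | hfix₂
  · exact Or.inr h
  exfalso
  have hUS : U ≤ S := le_of_sub (subnormal_sub hC)
  haveI : Finite U := finite_of_le hUS
  have hc₁ := h₁.1.2.2.2.1
  have hc₂ := h₂.1.2.2.2.1
  have hUle : U ≤ S₁ ⊓ S₂ := by
    intro y hy
    rw [← hq.2.1] at hy
    refine (Subgroup.closure_le _).2 ?_ hy
    rintro _ ⟨P, α, x, hP, -, rfl⟩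
    rw [← autMap_coe]
    have hxS : (x : Ω) ∈ S := hUS (hP x.2)
    set f := autMap (α : MulAut P)
    have hf : IsMap C P f := (mem_autGroup_iff hP).1 α.2
    obtain ⟨g, hg, hge, hgfix⟩ := hfix₁ P f hf
    obtain ⟨g', hg', hg'e, hg'fix⟩ := hfix₂ P f hf
    obtain ⟨a, ha, b, hb, hab⟩ := hdec x hxS
    have haD : a ∈ P ⊔ S₁ := Subgroup.mem_sup_right ha
    have hbD : b ∈ P ⊔ S₁ := by
      rw [show b = a⁻¹ * (x : Ω) by rw [← hab, inv_mul_cancel_left]]
      exact mul_mem (inv_mem haD) (Subgroup.mem_sup_left x.2)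
    have hbD' : b ∈ P ⊔ S₂ := Subgroup.mem_sup_right hb
    have haD' : a ∈ P ⊔ S₂ := by
      rw [show a = (x : Ω) * b⁻¹ by rw [← hab, mul_inv_cancel_right]]
      exact mul_mem (Subgroup.mem_sup_left x.2) (inv_mem hbD')
    have hgb : g b ∈ S₂ := mem_of_stronglyClosed hc₂ hg hbD hb
    have hga : g' a ∈ S₁ := mem_of_stronglyClosed hc₁ hg' haD' ha
    have e1 : f x = a * g b := by
      rw [← hge x x.2, ← hab, hg.map_mul haD hbD, hgfix a ha]
    have e2 : f x = g' a * b := by
      rw [← hg'e x x.2, ← hab, hg'.map_mul haD' hbD', hg'fix b hb]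
    have h3 : b⁻¹ * g b ∈ S₂ := S₂.mul_mem (S₂.inv_mem hb) hgb
    have h4 : a⁻¹ * g' a ∈ S₁ := S₁.mul_mem (S₁.inv_mem ha) hga
    have h5 : (x : Ω)⁻¹ * f x = b⁻¹ * g b := by rw [e1, ← hab]; group
    have h6 : (a⁻¹ * g' a) = g b * b⁻¹ := by
      have := e1.symm.trans e2
      rw [eq_mul_inv_iff_mul_eq, mul_assoc, ← this, inv_mul_cancel_left]
    have h7 : g b * b⁻¹ ∈ S₁ ⊓ S₂ := ⟨h6 ▸ h4, S₂.mul_mem hgb (S₂.inv_mem hb)⟩
    have h8 : b⁻¹ * g b = g b * b⁻¹ := by
      have := hcent _ h7 b (hc₂.1 hb)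
      rw [← mul_assoc, inv_mul_cancel_right] at this
      nth_rw 1 [← this]
      group
    show (x : Ω)⁻¹ * f x ∈ S₁ ⊓ S₂
    rw [h5, h8]
    exact h7
  exact S5148.main (hS.to_le hUS) hq ⟨⟨fun x y => Subtype.ext (hcent y (hUle y.2) x (hUS x.2))⟩⟩

end Cfsg.Agent.Signalizer.FusComp
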