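import Cfsg.Agent.Signalizer.FusComp.Main

/-!
The factors of a central product are normal subsystems.
-/

set_option autoImplicit false
set_option linter.style.haveILetI false
set_option linter.unusedSectionVars false

namespace Cfsg.Agent.Signalizer.FusComp

open Cfsg Cfsg.FusionSystem Cfsg.Agent.FusionSys Cfsg.Agent.H91.CentFocal
open Cfsg.Agent.H89 (isCentral_center mem_preimageAlong)
open Cfsg.FusionSystem (centralizerIn normalizerIn)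

universe u

variable {Ω : Type u} [Group Ω] {S S₁ S₂ : Subgroup Ω} [Finite S] {F : FusionSystem S}
  {F₁ : FusionSystem S₁} {F₂ : FusionSystem S₂} {p : ℕ} [Fact p.Prime]

/-- The multiplication map of a central product and the system it carries. -/
structure Glue (F₁ : FusionSystem S₁) (F₂ : FusionSystem S₂) (F : FusionSystem S) : Prop where
  le₁ : S₁ ≤ S
  le₂ : S₂ ≤ S
  dec : ∀ s ∈ S, ∃ a ∈ S₁, ∃ b ∈ S₂, a * b = s
  comm : ∀ a ∈ S₁, ∀ b ∈ S₂, a * b = b * a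
  restr₁ : ∀ P f, P ≤ S₁ → IsMap F P f → IsMap F₁ P f
  restr₂ : ∀ P f, P ≤ S₂ → IsMap F P f → IsMap F₂ P f
  ext₁ : ∀ α ∈ F₁.autGroup S₁, ∃ g, IsMap F S g ∧ (∀ a ∈ S₁, g a = autMap α a) ∧ ∀ b ∈ S₂, g b = b
  ext₂ : ∀ α ∈ F₂.autGroup S₂, ∃ g, IsMap F S g ∧ (∀ b ∈ S₂, g b = autMap α b) ∧ ∀ a ∈ S₁, g a = a

theorem glue_of_centralProduct (hc : IsCentralProductOf F₁ F₂ F) : Glue F₁ F₂ F := by
  obtain ⟨D₀, hD₀, Z, θ, hZc, -, -, hθ₁, hθ₂, hZ, hker, hrange, hHom⟩ := hc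
  have mem₁ : ∀ {x : Ω}, x ∈ S₁ → ((x, 1) : Ω × Ω) ∈ S₁.prod S₂ := fun hx => ⟨hx, S₂.one_mem⟩
  have mem₂ : ∀ {y : Ω}, y ∈ S₂ → ((1, y) : Ω × Ω) ∈ S₁.prod S₂ := fun hy => ⟨S₁.one_mem, hy⟩
  have hmul : ∀ (w : S₁.prod S₂), θ w = (w : Ω × Ω).1 * (w : Ω × Ω).2 := by
    rintro ⟨⟨x, y⟩, hx, hy⟩
    rw [show (⟨(x, y), hx, hy⟩ : S₁.prod S₂) = ⟨(x, 1), mem₁ hx⟩ * ⟨(1, y), mem₂ hy⟩ from
      Subtype.ext (Prod.ext (mul_one x).symm (one_mul y).symm), map_mul, hθ₁, hθ₂]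
    simp
  have hle₁ : S₁ ≤ S := fun x hx => hrange.le ⟨⟨(x, 1), mem₁ hx⟩, hθ₁ x _⟩
  have hle₂ : S₂ ≤ S := fun y hy => hrange.le ⟨⟨(1, y), mem₂ hy⟩, hθ₂ y _⟩
  haveI : Finite S₁ := finite_of_le hle₁
  haveI : Finite S₂ := finite_of_le hle₂
  haveI : Finite (S₁.prod S₂) := Finite.of_equiv _ (Subgroup.prodEquiv S₁ S₂).toEquiv.symm
  have hcomm : ∀ a ∈ S₁, ∀ b ∈ S₂, a * b = b * a := fun a ha b hb => by
    have h1 := hmul ⟨(a, b), ha, hb⟩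
    rw [show (⟨(a, b), ha, hb⟩ : S₁.prod S₂) = ⟨(1, b), mem₂ hb⟩ * ⟨(a, 1), mem₁ ha⟩ from
      Subtype.ext (Prod.ext (one_mul a).symm (mul_one b).symm), map_mul, hθ₁, hθ₂] at h1
    simpa using h1.symm
  -- a map of `F` restricted to a subgroup of a factor
  have hrestr : ∀ P f, IsMap F P f →
      (P ≤ S₁ → IsMap F₁ P f) ∧ (P ≤ S₂ → IsMap F₂ P f) := by
    intro P f hf
    obtain ⟨φ', hφ', hφ'e⟩ := hf
    obtain ⟨-, φ, hφ, hle, hv, hm, hi⟩ := (hHom P φ').1 hφ'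
    obtain ⟨-, φ₁, hφ₁, φ₂, hφ₂, he⟩ := (hD₀ _ φ).1 hφ
    refine ⟨fun hP => ?_, fun hP => ?_⟩
    · have hproj : P ≤ (preimageAlong θ P).map (MonoidHom.fst Ω Ω) := fun x hx =>
        ⟨(x, 1), mem_preimageAlong.2 ⟨mem₁ (hP hx), (hθ₁ x _).symm ▸ hx⟩, rfl⟩
      refine ((isMap_of_mem hφ₁).mono hproj).congr fun x hx => ?_
      have hw : ((x, 1) : Ω × Ω) ∈ preimageAlong θ P :=
        mem_preimageAlong.2 ⟨mem₁ (hP hx), (hθ₁ x _).symm ▸ hx⟩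
      have h := hi ⟨_, hw⟩
      rw [hmul ⟨φ ⟨_, hw⟩, hv _⟩, hφ'e] at h
      change f _ = (φ ⟨_, hw⟩).1 * (φ ⟨_, hw⟩).2 at h
      rw [he ⟨_, hw⟩ (hproj hx) ⟨_, hw, rfl⟩] at h
      change f (θ ⟨(x, 1), _⟩) = _ at h
      rw [hθ₁] at h
      rw [homFun_mem φ₁ (hproj hx), h]
      show φ₁ ⟨x, hproj hx⟩ * φ₂ ⟨1, _⟩ = φ₁ ⟨x, hproj hx⟩
      rw [show φ₂ ⟨1, ⟨(x, 1), hw, rfl⟩⟩ = 1 from map_one φ₂, mul_one]
    · have hproj : P ≤ (preimageAlong θ P).map (MonoidHom.snd Ω Ω) := fun x hx =>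
        ⟨(1, x), mem_preimageAlong.2 ⟨mem₂ (hP hx), (hθ₂ x _).symm ▸ hx⟩, rfl⟩
      refine ((isMap_of_mem hφ₂).mono hproj).congr fun x hx => ?_
      have hw : ((1, x) : Ω × Ω) ∈ preimageAlong θ P :=
        mem_preimageAlong.2 ⟨mem₂ (hP hx), (hθ₂ x _).symm ▸ hx⟩
      have h := hi ⟨_, hw⟩
      rw [hmul ⟨φ ⟨_, hw⟩, hv _⟩, hφ'e] at h
      change f _ = (φ ⟨_, hw⟩).1 * (φ ⟨_, hw⟩).2 at h
      rw [he ⟨_, hw⟩ ⟨_, hw, rfl⟩ (hproj hx)] at h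
      change f (θ ⟨(1, x), _⟩) = _ at h
      rw [hθ₂] at h
      rw [homFun_mem φ₂ (hproj hx), h]
      show φ₁ ⟨1, _⟩ * φ₂ ⟨x, hproj hx⟩ = φ₂ ⟨x, hproj hx⟩
      rw [show φ₁ ⟨1, ⟨(1, x), hw, rfl⟩⟩ = 1 from map_one φ₁, one_mul]
  -- a pair of maps of the factors on the whole group gives a map of `F`
  have hpair : ∀ (u v : Ω → Ω), IsMap F₁ S₁ u → IsMap F₂ S₂ v →
      ∃ g, IsMap F S g ∧ ∀ a ∈ S₁, ∀ b ∈ S₂, g (a * b) = u a * v b := by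
    rintro u v hu hv
    obtain ⟨φ₁, hφ₁, hue⟩ := id hu
    obtain ⟨φ₂, hφ₂, hve⟩ := id hv
    have hpre : preimageAlong θ S = S₁.prod S₂ := le_antisymm (H89.preimageAlong_le θ S)
      fun w hw => mem_preimageAlong.2 ⟨hw, hrange.le ⟨_, rfl⟩⟩
    have hp₁ : ∀ w : preimageAlong θ S, (w : Ω × Ω).1 ∈ S₁ := fun w => (hpre.le w.2).1
    have hp₂ : ∀ w : preimageAlong θ S, (w : Ω × Ω).2 ∈ S₂ := fun w => (hpre.le w.2).2
    let φ : preimageAlong θ S →* Ω × Ω :=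
      (φ₁.comp (((MonoidHom.fst Ω Ω).comp (preimageAlong θ S).subtype).codRestrict S₁ hp₁)).prod
        (φ₂.comp (((MonoidHom.snd Ω Ω).comp (preimageAlong θ S).subtype).codRestrict S₂ hp₂))
    have hφe : ∀ w : preimageAlong θ S, φ w = (u (w : Ω × Ω).1, v (w : Ω × Ω).2) := fun w =>
      Prod.ext (hue ⟨_, hp₁ w⟩) (hve ⟨_, hp₂ w⟩)
    have hφ : φ ∈ D₀.Hom (preimageAlong θ S) := by
      refine (hD₀ _ φ).2 ⟨hpre.le, ?_⟩
      have hf₁ : (preimageAlong θ S).map (MonoidHom.fst Ω Ω) ≤ S₁ := by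
        rintro _ ⟨w, hw, rfl⟩; exact (hpre.le hw).1
      have hf₂ : (preimageAlong θ S).map (MonoidHom.snd Ω Ω) ≤ S₂ := by
        rintro _ ⟨w, hw, rfl⟩; exact (hpre.le hw).2
      obtain ⟨ψ₁, hψ₁, hψ₁e⟩ := hu.mono hf₁
      obtain ⟨ψ₂, hψ₂, hψ₂e⟩ := hv.mono hf₂
      refine ⟨ψ₁, hψ₁, ψ₂, hψ₂, fun w _ _ => ?_⟩
      rw [hφe w, hψ₁e, hψ₂e]
    have hφS : ∀ w, φ w ∈ S₁.prod S₂ := fun w => by
      rw [hφe w]; exact ⟨hu.mem_S (hp₁ w), hv.mem_S (hp₂ w)⟩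
    let ψ : S₁.prod S₂ →* Ω :=
      θ.comp ((φ.codRestrict (S₁.prod S₂) hφS).comp (Subgroup.inclusion hpre.ge))
    have hψe : ∀ w : S₁.prod S₂, ψ w = u (w : Ω × Ω).1 * v (w : Ω × Ω).2 := fun w => by
      show θ ⟨φ (Subgroup.inclusion hpre.ge w), hφS _⟩ = _
      rw [hmul ⟨φ (Subgroup.inclusion hpre.ge w), hφS _⟩]
      show (φ _).1 * (φ _).2 = _
      rw [hφe]
      rfl
    have hcen : D₀.IsCentral D₀.center := isCentral_center D₀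
    have hker' : θ.rangeRestrict.ker ≤ ψ.ker := by
      intro w hw
      rw [MonoidHom.ker_rangeRestrict, MonoidHom.mem_ker] at hw
      rw [MonoidHom.mem_ker]
      have hwZ : (w : Ω × Ω) ∈ D₀.center := hZc ((hker w).1 hw)
      have h1 := fix_of_isCentral hcen (isMap_of_mem hφ) (hpre.ge w.2) hwZ
      rw [homFun_mem φ (hpre.ge w.2), hφe] at h1
      rw [hψe, ← hw, hmul w]
      exact congrArg₂ (· * ·) (congrArg Prod.fst h1) (congrArg Prod.snd h1)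
    let L : θ.range →* Ω := θ.rangeRestrict.liftOfSurjective θ.rangeRestrict_surjective ⟨ψ, hker'⟩
    let φ' : S →* Ω := L.comp (MulEquiv.subgroupCongr hrange.symm).toMonoidHom
    have hφ'e : ∀ (w : S₁.prod S₂) (h : θ w ∈ S), φ' ⟨θ w, h⟩ = ψ w := fun w h =>
      MonoidHom.liftOfRightInverse_comp_apply θ.rangeRestrict _ (Function.rightInverse_surjInv θ.rangeRestrict_surjective) ⟨ψ, hker'⟩ w
    have hφ'mem : φ' ∈ F.Hom S := by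
      refine (hHom S φ').2 ⟨le_rfl, φ, hφ, H89.preimageAlong_le θ S, hφS,
        fun w => hrange.le ⟨_, rfl⟩, fun w => ?_⟩
      rw [hφ'e, hψe, hmul]
      show _ = (φ w).1 * (φ w).2
      rw [hφe]
    refine ⟨homFun φ', isMap_of_mem hφ'mem, fun a ha b hb => ?_⟩
    have hab : θ ⟨(a, b), ha, hb⟩ ∈ S := hrange.le ⟨_, rfl⟩
    have hS' : a * b ∈ S := by rw [hmul] at hab; exact hab
    rw [homFun_mem φ' hS', show (⟨a * b, hS'⟩ : S) = ⟨θ ⟨(a, b), ha, hb⟩, hab⟩ from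
      Subtype.ext (hmul ⟨(a, b), ha, hb⟩).symm, hφ'e, hψe]
  refine ⟨hle₁, hle₂, fun s hs => ?_, hcomm, fun P f hP hf => (hrestr P f hf).1 hP,
    fun P f hP hf => (hrestr P f hf).2 hP, fun α hα => ?_, fun α hα => ?_⟩
  · obtain ⟨w, rfl⟩ := hrange.ge hs
    exact ⟨_, w.2.1, _, w.2.2, (hmul w).symm⟩
  · obtain ⟨g, hg, he⟩ := hpair _ id ((mem_autGroup_iff le_rfl).1 hα) (isMap_id F₂ le_rfl)
    refine ⟨g, hg, fun a ha => ?_, fun b hb => ?_⟩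
    · have := he a ha 1 S₂.one_mem; rwa [mul_one, id_eq, mul_one] at this
    · have := he 1 S₁.one_mem b hb
      rwa [one_mul, ((mem_autGroup_iff le_rfl).1 hα).map_one, one_mul] at this
  · obtain ⟨g, hg, he⟩ := hpair id _ (isMap_id F₁ le_rfl) ((mem_autGroup_iff le_rfl).1 hα)
    refine ⟨g, hg, fun b hb => ?_, fun a ha => ?_⟩
    · have := he 1 S₁.one_mem b hb; rwa [one_mul, id_eq, one_mul] at this
    · have := he a ha 1 S₂.one_mem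
      rwa [mul_one, ((mem_autGroup_iff le_rfl).1 hα).map_one, mul_one] at this

/-- A factor is a normal subsystem. -/
theorem isNormalIn_factor (hF : F.IsSaturated p) (h₁ : F₁.IsSaturated p) (hsub : F₁.IsSubsystemOf F)
    (le₁ : S₁ ≤ S) (le₂ : S₂ ≤ S) (dec : ∀ s ∈ S, ∃ a ∈ S₁, ∃ b ∈ S₂, a * b = s)
    (comm : ∀ a ∈ S₁, ∀ b ∈ S₂, a * b = b * a) (restr : ∀ P f, P ≤ S₁ → IsMap F P f → IsMap F₁ P f)
    (ext : ∀ α ∈ F₁.autGroup S₁, ∃ g, IsMap F S g ∧ (∀ a ∈ S₁, g a = autMap α a) ∧ ∀ b ∈ S₂, g b = b) :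
    F₁.IsNormalIn F p := by
  haveI : Finite S₁ := finite_of_le le₁
  have hcl : F.StronglyClosed S₁ := stronglyClosed_iff.2 ⟨le₁, fun P f hP hf x hx =>
    (restr P f hP hf).mem_S hx⟩
  refine ⟨⟨h₁, hF, H59.Transp.isInvariant_iff_isMap.2 ⟨hsub, hcl, fun P f hf a ha => ?_,
    fun P f hP hf => ⟨1, one_mem _, f, restr P f hP hf,
      fun x hx => (FusionSys.autMap_one ((restr P f hP hf).mem_S hx)).symm⟩⟩⟩, fun α hα => ?_⟩
  · have hb : IsMap F₁ S₁ (autMap a) := restr _ _ le_rfl ((mem_autGroup_iff le₁).1 ha)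
    have hb' : IsMap F₁ S₁ (autMap a⁻¹) :=
      restr _ _ le_rfl ((mem_autGroup_iff le₁).1 (inv_mem ha))
    have hin : ∀ y ∈ imgSub (autMap a) P, autMap a⁻¹ y ∈ P := fun y hy => by
      obtain ⟨x, hx, rfl⟩ := (hb.mono hf.le).mem_imgSub.1 hy
      rwa [S5114.inv_autMap_apply a (hf.le hx)]
    exact ((hb'.mono (hb.mono hf.le).imgSub_le).comp hf hin).comp hb fun y hy => hf.mem_S (hin y hy)
  · obtain ⟨g, hg, hg₁, hg₂⟩ := ext α hα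
    have hX : S₁ ⊔ centralizerIn S S₁ ≤ S := sup_le le₁ centralizerIn_le
    haveI : Finite (S₁ ⊔ centralizerIn S S₁ : Subgroup Ω) := finite_of_le hX
    have hcmem : ∀ c ∈ centralizerIn S S₁, c⁻¹ * g c ∈ S₁ ∧
        g c ∈ centralizerIn S S₁ := by
      intro c hc
      have hgc : g c ∈ centralizerIn S S₁ := by
        refine FusionSys.mem_centralizerIn.2 ⟨hg.mem_S hc.1, fun y hy => ?_⟩
        obtain ⟨x, hx, rfl⟩ : ∃ x ∈ S₁, g x = y :=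
          ⟨_, autMap_mem α⁻¹ hy, by rw [hg₁ _ (autMap_mem α⁻¹ hy), autMap_inv_apply α hy]⟩
        rw [← hg.map_mul (le₁ hx) hc.1, ← hg.map_mul hc.1 (le₁ hx),
          (FusionSys.mem_centralizerIn.1 hc).2 x hx]
      refine ⟨?_, hgc⟩
      obtain ⟨a, ha, b, hb, rfl⟩ := dec c hc.1
      rw [hg.map_mul (le₁ ha) (le₂ hb), hg₁ a ha, hg₂ b hb,
        show (a * b)⁻¹ * (autMap α a * b) = b⁻¹ * (a⁻¹ * autMap α a * b) by group,
        comm _ (S₁.mul_mem (S₁.inv_mem ha) (autMap_mem α ha)) b hb, inv_mul_cancel_left]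
      exact S₁.mul_mem (S₁.inv_mem ha) (autMap_mem α ha)
    have hgX : IsMap F (S₁ ⊔ centralizerIn S S₁) g := hg.mono hX
    obtain ⟨β, hβ, hβe⟩ := (isIso_of_mapsTo hgX fun y hy => hgX.mapsTo_sup
      (fun a ha => Subgroup.mem_sup_left ((hg₁ a ha).symm ▸ autMap_mem α ha))
      (fun c hc => Subgroup.mem_sup_right (hcmem c hc).2) hy).exists_aut
    refine ⟨β, hβ, fun x => ?_, fun c hc => ?_⟩
    · rw [← autMap_coe β, Subgroup.coe_inclusion, hβe _ (Subgroup.mem_sup_left x.2), hg₁ _ x.2,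
        autMap_coe]
    · rw [← autMap_coe β, hβe _ c.2]
      exact ⟨(hcmem _ hc).1, Subgroup.mul_mem _ (Subgroup.inv_mem _ hc.2) (hcmem _ hc).2.2⟩

end Cfsg.Agent.Signalizer.FusComp
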