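import Cfsg.Agent.Signalizer.FusComp.ModExtendMoved
import Cfsg.Agent.H89.ComponentFix

/-!
If the maps of a component of a normal subsystem `D` over `T` extend fixing `W ∩ T`, where `W` is strongly closed,
then they extend fixing `W`.
-/

set_option autoImplicit false
set_option linter.style.haveILetI false
set_option linter.unusedSectionVars false
set_option maxHeartbeats 1000000

namespace Cfsg.Agent.Signalizer.FusComp

open Cfsg Cfsg.FusionSystem Cfsg.Agent.FusionSys Cfsg.Agent.H91.CentFocal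
open Cfsg.Agent.H89 (mem_of_stronglyClosed)
open Cfsg.Agent.H89.ComponentFix (Fixes subnormal_sub)
open Cfsg.Agent.H89.Lift (nSub mem_nSub nSub_le le_nSub inn_conj)
open Cfsg.Agent.H89.Gen (finSub modGroup mem_modGroup modGroup_conj)
open Cfsg.Agent.H89.WeakResidual (conj_mem_autGroup)
open Cfsg.FusionSystem (centralizerIn normalizerIn)

universe u

variable {Ω : Type u} [Group Ω] {S T U Q : Subgroup Ω} {F : FusionSystem S} {p : ℕ}
variable [Finite S] [Fact p.Prime]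

/-- The automorphisms of `Q` fixing `Q ∩ V` pointwise. -/
def fixGroup (Q V : Subgroup Ω) : Subgroup (MulAut Q) where
  carrier := {a | ∀ x ∈ Q, x ∈ V → autMap a x = x}
  one_mem' := fun x hx _ => FusionSys.autMap_one hx
  mul_mem' := fun {a b} ha hb x hx hxV => by rw [autMap_mul _ _ hx, hb x hx hxV, ha x hx hxV]
  inv_mem' := fun {a} ha x hx hxV => by
    nth_rw 1 [← ha x hx hxV]
    exact S5114.inv_autMap_apply a hx

/-- An automorphism of `R ≤ T` of order prime to `p` extending in `D` fixing `W ∩ T` extends in `F` fixing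
`W`. -/
theorem fixes_of_inner (hS : IsPGroup p S) (hF : F.IsSaturated p) {D : FusionSystem T}
    (hD : D.IsNormalIn F p) {W : Subgroup Ω} (hW : F.StronglyClosed W) {R : Subgroup Ω} (hRT : R ≤ T)
    {α : MulAut R} {g₁ : Ω → Ω} (hg₁ : IsMap D (R ⊔ W ⊓ T) g₁) (hgR : ∀ x ∈ R, g₁ x ∈ R)
    (hfix₁ : ∀ v ∈ W ⊓ T, g₁ v = v) (he₁ : ∀ x ∈ R, g₁ x = autMap α x)
    (hco : (orderOf α).Coprime p) : Fixes F W R (autMap α) := by
  have hT := hD.1.2.2.2.1
  have hsub := hD.1.2.2.1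
  have hTS := hT.1
  have hWS := hW.1
  haveI : Finite T := finite_of_le hTS
  haveI : Finite W := finite_of_le hWS
  have hTp : IsPGroup p T := hS.to_le hTS
  set V := W ⊓ T with hVdef
  have hVc : ∀ {X : Subgroup Ω} {f : Ω → Ω}, IsMap F X f → ∀ x ∈ X, x ∈ V → f x ∈ V :=
    fun hf x hx hxV => ⟨mem_of_stronglyClosed hW hf hx hxV.1, mem_of_stronglyClosed hT hf hx hxV.2⟩
  -- `W` acts trivially modulo `V` on `T`
  have hcomm : ∀ w ∈ W, ∀ r ∈ T, r⁻¹ * (w * r * w⁻¹) ∈ V := fun w hw r hr => by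
    refine ⟨?_, T.mul_mem (T.inv_mem hr) (conj_mem_closed hT (hWS hw) hr)⟩
    rw [show r⁻¹ * (w * r * w⁻¹) = r⁻¹ * w * r⁻¹⁻¹ * w⁻¹ by group]
    exact W.mul_mem (conj_mem_closed hW (S.inv_mem (hTS hr)) hw) (W.inv_mem hw)
  have hWnorm : ∀ {X : Subgroup Ω}, X ≤ T → V ≤ X → W ≤ normalizerIn S X := fun {X} hXT hVX w hw => by
    haveI := finite_of_le hXT
    refine ⟨hWS hw, mem_normalizer_of_maps fun x hx => ?_⟩
    have := X.mul_mem hx (hVX (hcomm w hw x (hXT hx)))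
    rwa [mul_inv_cancel_left] at this
  set Q₀ := R ⊔ V with hQ₀
  have hRQ₀ : R ≤ Q₀ := le_sup_left
  have hQ₀T : Q₀ ≤ T := sup_le hRT inf_le_right
  have hQ₀S : Q₀ ≤ S := hQ₀T.trans hTS
  haveI := finite_of_le hQ₀S
  haveI := finite_mulAut_of_le hQ₀S
  have hmaps : ∀ y ∈ Q₀, g₁ y ∈ Q₀ := fun y hy => hg₁.mapsTo_sup
    (fun x hx => Subgroup.mem_sup_left (hgR x hx))
    (fun v hv => Subgroup.mem_sup_right ((hfix₁ v hv).symm ▸ hv)) hy
  obtain ⟨δ₁, hδ₁, hδ₁e⟩ := (isIso_of_mapsTo hg₁ hmaps).exists_aut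
  -- make the order prime to `p`
  haveI := finite_of_le (hRT.trans hTS)
  haveI := finite_mulAut_of_le (hRT.trans hTS)
  have hpow : ∀ j : ℕ, (∀ x ∈ R, autMap (δ₁ ^ j) x = autMap (α ^ j) x) ∧
      ∀ v ∈ V, autMap (δ₁ ^ j) v = v := by
    intro j
    induction j with
    | zero =>
      exact ⟨fun x hx => by rw [pow_zero, pow_zero, FusionSys.autMap_one (hRQ₀ hx), FusionSys.autMap_one hx],
        fun v hv => by rw [pow_zero, FusionSys.autMap_one (Subgroup.mem_sup_right hv)]⟩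
    | succ j ih =>
      refine ⟨fun x hx => ?_, fun v hv => ?_⟩
      · rw [pow_succ', pow_succ', autMap_mul _ _ (hRQ₀ hx), autMap_mul _ _ hx, ih.1 x hx,
          hδ₁e _ (hRQ₀ (autMap_mem _ hx)), he₁ _ (autMap_mem _ hx)]
      · rw [pow_succ', autMap_mul _ _ (Subgroup.mem_sup_right hv), ih.2 v hv,
          hδ₁e _ (Subgroup.mem_sup_right hv), hfix₁ v hv]
  obtain ⟨a, m, hm, hNe⟩ := Nat.exists_eq_pow_mul_and_not_dvd (orderOf_pos δ₁).ne' p
    (Fact.out : p.Prime).ne_one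
  have hpa : (orderOf α).Coprime (p ^ a) := hco.pow_right a
  obtain ⟨e, -, hee⟩ : ∃ e, e < orderOf α + 1 ∧ α ^ (p ^ a * e) = α := by
    rcases Nat.eq_or_lt_of_le (orderOf_pos α) with h1 | h1
    · exact ⟨0, Nat.succ_pos _, by rw [mul_zero, pow_zero, orderOf_eq_one_iff.1 h1.symm]⟩
    · obtain ⟨e, he⟩ := Nat.exists_mul_mod_eq_one_of_coprime hpa.symm h1
      refine ⟨e, he.1.trans (Nat.lt_succ_self _), ?_⟩
      rw [← pow_mod_orderOf, he.2, pow_one]
  set δ := δ₁ ^ (p ^ a * e) with hδdef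
  have hδD : δ ∈ D.autGroup Q₀ := pow_mem hδ₁ _
  have hδco : (orderOf δ).Coprime p := by
    have h1 : δ ^ m = 1 := by
      rw [hδdef, ← pow_mul, show p ^ a * e * m = (p ^ a * m) * e by ring, ← hNe, pow_mul,
        pow_orderOf_eq_one, one_pow]
    exact (((Fact.out : p.Prime).coprime_iff_not_dvd.2 hm).symm).coprime_dvd_left
      (orderOf_dvd_of_pow_eq_one h1)
  have hδR : ∀ x ∈ R, autMap δ x = autMap α x := fun x hx => by
    rw [hδdef, (hpow _).1 x hx, hee]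
  have hδV : ∀ v ∈ V, autMap δ v = v := (hpow _).2
  -- move to a fully normalized conjugate
  obtain ⟨Q, hQ, hQn⟩ := exists_isFullyNormalized F hQ₀S
  obtain ⟨g, hg, hgi, hgN⟩ := exists_map_to_fullyNormalized hS hF hQn hQ
  have hQT : Q ≤ T := target_le_of_closed hT hQ₀T hgi
  haveI := finite_of_le hQn.1
  haveI := finite_mulAut_of_le hQn.1
  have hWN₀ : W ≤ normalizerIn S Q₀ := hWnorm hQ₀T le_sup_right
  have hgW : g '' (W : Set Ω) = W := (hg.mono hWN₀).image_eq_of_mapsTo fun w hw =>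
    mem_of_stronglyClosed hW hg (hWN₀ hw) hw
  have hVN₀ : V ≤ normalizerIn S Q₀ := inf_le_left.trans hWN₀
  haveI : Finite V := finite_of_le (inf_le_left.trans hWS)
  have hgV : g '' (V : Set Ω) = V := (hg.mono hVN₀).image_eq_of_mapsTo fun v hv =>
    hVc hg v (hVN₀ hv) hv
  have hVQ : V ≤ Q := fun v hv => by
    obtain ⟨u, hu, rfl⟩ := hgV.ge hv
    exact hgi.mem (Subgroup.mem_sup_right hu)
  have hWN : W ≤ normalizerIn S Q := hWnorm hQT hVQ
  set x := hgi.autEquiv δ with hxdef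
  have hxD : x ∈ D.autGroup Q := autEquiv_mem hD.1.2.2 hQ₀T hgi hδD
  have hxco : (orderOf x).Coprime p := by
    rw [hxdef, MulEquiv.orderOf_eq]
    exact hδco
  have hxg : ∀ y ∈ Q₀, autMap x (g y) = g (autMap δ y) := fun y hy => hgi.autMap_autEquiv δ hy
  have hxV : ∀ v ∈ V, autMap x v = v := fun v hv => by
    obtain ⟨u, hu, rfl⟩ := hgV.ge hv
    rw [hxg u (Subgroup.mem_sup_right hu), hδV u hu]
  have hQDn : D.IsFullyNormalized Q := isFullyNormalized_sub hS hF hsub hT hQT hQn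
  haveI := finite_autGroup D hQT
  -- the stabilizer of the chain `1 ≤ V ≤ Q`
  set Δ : Subgroup (MulAut Q) := D.autGroup Q ⊓ modGroup Q V ⊓ fixGroup Q V with hΔ
  have hΔconj : ∀ c ∈ F.autGroup Q, ∀ k ∈ Δ, c * k * c⁻¹ ∈ Δ := by
    rintro c hc k ⟨⟨hkD, hkm⟩, hkf⟩
    have hcV : ∀ y ∈ Q, y ∈ V → autMap c y ∈ V := fun y hy hyV =>
      hVc ((mem_autGroup_iff hQn.1).1 hc) y hy hyV
    refine ⟨⟨conj_mem_autGroup hD.1.2.2 hQT hc hkD, modGroup_conj hQn.1 hc hcV hkm⟩, fun y hy hyV => ?_⟩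
    have hcV' : autMap c⁻¹ y ∈ V := hVc ((mem_autGroup_iff hQn.1).1 (inv_mem hc)) y hy hyV
    rw [autMap_mul _ _ hy, autMap_mul _ _ (autMap_mem _ hy), hkf _ (autMap_mem _ hy) hcV',
      autMap_inv_apply c hy]
  have hDF : D.autGroup Q ≤ F.autGroup Q := fun c hc =>
    mem_autGroup_of_isMap (isMap_of_sub hsub (autGroup_set_subgroup hQT hc))
  have hΔT : Δ ≤ autInducedBy T Q := by
    set N := Δ.subgroupOf (D.autGroup Q) with hN
    haveI : N.Normal := ⟨fun k hk c => hΔconj _ (hDF c.2) _ hk⟩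
    obtain ⟨n, hn⟩ := IsPGroup.iff_card.1 (hS.to_le (inf_le_left.trans hWS : V ≤ S))
    have hNp : IsPGroup p N := by
      intro k
      refine ⟨n, Subtype.ext (Subtype.ext (aut_ext fun y hy => ?_))⟩
      obtain ⟨⟨-, hkm⟩, hkf⟩ := Subgroup.mem_subgroupOf.1 k.2
      set k' : MulAut Q := ((k : D.autGroup Q) : MulAut Q) with hk'
      have hd : y⁻¹ * autMap k' y ∈ V := hkm y hy
      have key : ∀ j : ℕ, autMap (k' ^ j) y = y * (y⁻¹ * autMap k' y) ^ j := by
        intro j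
        induction j with
        | zero => rw [pow_zero, FusionSys.autMap_one hy, pow_zero, mul_one]
        | succ j ih =>
          have hdj := V.pow_mem hd j
          rw [pow_succ', autMap_mul _ _ hy, ih,
            ((mem_autGroup_iff hQn.1).1 (hDF (k : D.autGroup Q).2)).map_mul hy (hVQ hdj),
            hkf _ (hVQ hdj) hdj, pow_succ', ← mul_assoc y, mul_inv_cancel_left]
      simp only [SubgroupClass.coe_pow, Subgroup.coe_one]
      rw [key, ← hn, show (y⁻¹ * autMap k' y) ^ Nat.card V = 1 from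
        congrArg Subtype.val (pow_card_eq_one' (x := (⟨_, hd⟩ : V))), mul_one, FusionSys.autMap_one hy]
    obtain ⟨-, Sy, hSy⟩ := isFullyAutomized_of_isFullyNormalized hTp hD.1.1 hQDn
    intro k hk
    have hkS : (⟨k, hk.1.1⟩ : D.autGroup Q) ∈ (Sy : Subgroup (D.autGroup Q)) :=
      Cfsg.Agent.H89.ResidualExtend.le_sylow_of_normal hNp Sy (Subgroup.mem_subgroupOf.2 hk)
    rw [hSy] at hkS
    exact Subgroup.mem_subgroupOf.1 hkS
  -- the group of automorphisms to be extended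
  set Y : Subgroup (MulAut Q) := autInducedBy W Q ⊔ (Inn Q ⊔ Δ) with hY
  have hYI : Inn Q ≤ Y := le_sup_left.trans le_sup_right
  have hInnT : Inn Q ≤ autInducedBy T Q := by
    rw [inn_eq_autInducedBy_self]; exact autInducedBy_mono hQT
  have hTQS : autInducedBy T Q ≤ autInducedBy S Q := autInducedBy_mono hTS
  have hYS : Y ≤ autInducedBy S Q :=
    sup_le (autInducedBy_mono hWS) ((sup_le hInnT hΔT).trans hTQS)
  have hxF : x ∈ F.autGroup Q := hDF hxD
  -- the action of `x` on `Aut_W(Q)`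
  have hk : ∀ c ∈ autInducedBy W Q, c⁻¹ * (x * c * x⁻¹) ∈ Δ := by
    intro c hc
    obtain ⟨w, hw, hwn, rfl⟩ := mem_autInducedBy.1 hc
    set c := conjAut hwn with hcdef
    have hcF : c ∈ F.autGroup Q := conjAut_mem_autGroup F hQn.1 (hWN hw)
    have hcm : ∀ y ∈ Q, y⁻¹ * autMap c y ∈ V := fun y hy => by
      rw [autMap_conjAut hwn hy, conjMap_apply]; exact hcomm w hw y (hQT hy)
    have hcV : ∀ v ∈ V, autMap c v ∈ V := fun v hv =>
      hVc ((mem_autGroup_iff hQn.1).1 hcF) v (hVQ hv) hv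
    have hxm := (mem_autGroup_iff hQn.1).1 hxF
    have hc'm := (mem_autGroup_iff hQn.1).1 (inv_mem hcF)
    refine ⟨⟨?_, fun y hy => ?_⟩, fun y hy hyV => ?_⟩
    · rw [show c⁻¹ * (x * c * x⁻¹) = c⁻¹ * x * c⁻¹⁻¹ * x⁻¹ by group]
      exact Subgroup.mul_mem _ (conj_mem_autGroup hD.1.2.2 hQT (inv_mem hcF) hxD) (Subgroup.inv_mem _ hxD)
    · obtain ⟨z, hz, rfl⟩ : ∃ z ∈ Q, autMap x z = y :=
        ⟨_, autMap_mem x⁻¹ hy, autMap_inv_apply x hy⟩
      have he := hcm z hz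
      set d := z⁻¹ * autMap c z with hd
      have hcz : autMap c z = z * d := by rw [hd, mul_inv_cancel_left]
      obtain ⟨u, hu, hue⟩ : ∃ u ∈ Q, autMap c u = autMap x z :=
        ⟨_, autMap_mem c⁻¹ hy, autMap_inv_apply c hy⟩
      have h1 := hcm u hu
      rw [hue] at h1
      rw [autMap_mul _ _ hy, autMap_mul _ _ hy, autMap_mul _ _ (autMap_mem _ hy),
        S5114.inv_autMap_apply x hz, hcz, hxm.map_mul hz (hVQ he), hxV d he,
        hc'm.map_mul (autMap_mem _ hz) (hVQ he), ← mul_assoc,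
        show autMap c⁻¹ (autMap x z) = u by rw [← hue, S5114.inv_autMap_apply c hu],
        show (autMap x z)⁻¹ * u = (u⁻¹ * autMap x z)⁻¹ by group]
      exact V.mul_mem (V.inv_mem h1) (hVc hc'm d (hVQ he) he)
    · have h0 : autMap x⁻¹ y = y := by
        nth_rw 1 [← hxV y hyV]
        exact S5114.inv_autMap_apply x hy
      rw [autMap_mul _ _ hy, autMap_mul _ _ hy, autMap_mul _ _ (autMap_mem _ hy), h0,
        hxV _ (hcV y hyV), S5114.inv_autMap_apply c hy]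
  have hxΔ : ∀ k ∈ Δ, x * k * x⁻¹ ∈ Δ := fun k hk' => hΔconj x hxF k hk'
  have hxInn : ∀ k ∈ Inn Q, x * k * x⁻¹ ∈ Inn Q := fun k hk' => inn_conj (le_refl (Inn Q)) x hk'
  have hxY : ∀ y ∈ Y, x * y * x⁻¹ ∈ Y := by
    have : Y ≤ Y.comap (MulAut.conj x).toMonoidHom := sup_le
      (fun c hc => by
        show x * c * x⁻¹ ∈ Y
        have := Y.mul_mem (Subgroup.mem_sup_left hc) (Subgroup.mem_sup_right (Subgroup.mem_sup_right (hk c hc)) :
          c⁻¹ * (x * c * x⁻¹) ∈ Y)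
        rwa [mul_inv_cancel_left] at this)
      (sup_le (fun k hk' => Subgroup.mem_sup_right (Subgroup.mem_sup_left (hxInn k hk')))
        (fun k hk' => Subgroup.mem_sup_right (Subgroup.mem_sup_right (hxΔ k hk'))))
    exact fun y hy => this hy
  have hnormT : ∀ y ∈ autInducedBy S Q, ∀ k ∈ autInducedBy T Q, y * k * y⁻¹ ∈ autInducedBy T Q := by
    rintro y hy k hk'
    obtain ⟨s, hs, hsn, rfl⟩ := mem_autInducedBy.1 hy
    obtain ⟨t, ht, htn, rfl⟩ := mem_autInducedBy.1 hk'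
    refine mem_autInducedBy.2 ⟨s * t * s⁻¹, conj_mem_closed hT hs ht,
      mul_mem (mul_mem hsn htn) (inv_mem hsn), ?_⟩
    exact (map_inv (conjAutHom Q) ⟨s, hsn⟩ ▸ ((map_mul (conjAutHom Q) ⟨s, hsn⟩ ⟨t, htn⟩) ▸
      (map_mul (conjAutHom Q) (⟨s, hsn⟩ * ⟨t, htn⟩) ⟨s, hsn⟩⁻¹).symm))
  let Mv : Subgroup (MulAut Q) :=
    { carrier := {y | y ∈ autInducedBy S Q ∧ y⁻¹ * (x * y * x⁻¹) ∈ autInducedBy T Q}
      one_mem' := ⟨one_mem _, by simp⟩
      mul_mem' := fun {a b} ⟨ha, ha'⟩ ⟨hb, hb'⟩ => ⟨mul_mem ha hb, by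
        have := mul_mem (hnormT _ (inv_mem hb) _ ha') hb'
        convert this using 1
        group⟩
      inv_mem' := fun {a} ⟨ha, ha'⟩ => ⟨inv_mem ha, by
        have := hnormT _ ha _ (inv_mem ha')
        convert this using 1
        group⟩ }
  have hxT : ∀ y ∈ Y, y⁻¹ * (x * y * x⁻¹) ∈ autInducedBy T Q := by
    have : Y ≤ Mv := sup_le (fun c hc => ⟨autInducedBy_mono hWS hc, hΔT (hk c hc)⟩)
      (sup_le (fun k hk' => ⟨hTQS (hInnT hk'), mul_mem (inv_mem (hInnT hk')) (hInnT (hxInn k hk'))⟩)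
        (fun k hk' => ⟨hTQS (hΔT hk'), mul_mem (inv_mem (hΔT hk')) (hΔT (hxΔ k hk'))⟩))
    exact fun y hy => (this hy).2
  obtain ⟨G, hG, hGco, hGQ, hGm⟩ :=
    exists_mod_ext_moved hS hD hQT hQn hYI hYS hxD hxco hxY hxT
  have hMS : (nSub S Q Y) ≤ S := nSub_le
  have hQM : Q ≤ (nSub S Q Y) := le_nSub hQn.1 hYI
  have hWM : W ≤ (nSub S Q Y) := fun w hw => mem_nSub.2 ⟨hWN hw,
    Subgroup.mem_sup_left (mem_autInducedBy.2 ⟨w, hw, (hWN hw).2, rfl⟩)⟩
  haveI := finite_of_le hMS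
  have hGM : IsMap F (nSub S Q Y) (autMap G) := (mem_autGroup_iff hMS).1 hG
  have hGW : ∀ w ∈ W, autMap G w = w := by
    intro w hw
    have hwG : autMap G w ∈ W := mem_of_stronglyClosed hW hGM (hWM hw) hw
    set z := w⁻¹ * autMap G w with hz
    have hzV : z ∈ V := ⟨W.mul_mem (W.inv_mem hw) hwG, hGm w (hWM hw)⟩
    have hGz : autMap G z = z := by rw [hGQ z (hVQ hzV), hxV z hzV]
    have key : ∀ j : ℕ, autMap (G ^ j) w = w * z ^ j := by
      intro j
      induction j with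
      | zero => rw [pow_zero, FusionSys.autMap_one (hWM hw), pow_zero, mul_one]
      | succ j ih =>
        rw [pow_succ', autMap_mul _ _ (hWM hw), ih,
          hGM.map_mul (hWM hw) (Subgroup.pow_mem (nSub S Q Y) (hQM (hVQ hzV)) j), hGM.map_pow (hQM (hVQ hzV)), hGz,
          pow_succ', ← mul_assoc w, show w * z = autMap G w by rw [hz, mul_inv_cancel_left]]
    have h1 : z ^ orderOf G = 1 := by
      have := key (orderOf G)
      rw [pow_orderOf_eq_one, FusionSys.autMap_one (hWM hw)] at this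
      exact mul_left_cancel (this.symm.trans (mul_one w).symm)
    obtain ⟨k, hk⟩ := (hS ⟨z, hWS hzV.1⟩)
    have hk' : z ^ p ^ k = 1 := congrArg Subtype.val hk
    have hz1 : z = 1 := orderOf_eq_one_iff.1 (Nat.eq_one_of_dvd_coprimes (hGco.pow_right k)
      (orderOf_dvd_of_pow_eq_one h1) (orderOf_dvd_of_pow_eq_one hk'))
    rwa [hz, inv_mul_eq_one, eq_comm] at hz1
  -- pull back
  have hRW : R ⊔ W ≤ normalizerIn S Q₀ :=
    sup_le (hRQ₀.trans (le_normalizerIn_self hQ₀S)) hWN₀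
  have hgin : ∀ y ∈ R ⊔ W, g y ∈ (nSub S Q Y) := fun y hy => (hg.mono hRW).mapsTo_sup
    (fun r hr => hQM (hgi.mem (hRQ₀ hr))) (fun w hw => hWM (hgW.le ⟨w, hw, rfl⟩)) hy
  obtain ⟨g', hg', hg'e⟩ := hg.exists_inv
  have hQW : ∀ y ∈ R ⊔ W, autMap G (g y) ∈ imgSub g (normalizerIn S Q₀) := fun y hy =>
    ((hg.mono hRW).comp hGM hgin).mapsTo_sup
      (fun r hr => by
        rw [Function.comp_apply, hGQ _ (hgi.mem (hRQ₀ hr)), hxg r (hRQ₀ hr)]
        exact hg.mem_imgSub.2 ⟨_, le_normalizerIn_self hQ₀S (autMap_mem δ (hRQ₀ hr)), rfl⟩)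
      (fun w hw => by
        rw [Function.comp_apply, hGW _ (hgW.le ⟨w, hw, rfl⟩)]
        exact hg.mem_imgSub.2 ⟨w, hWN₀ hw, rfl⟩) hy
  refine ⟨g' ∘ (autMap G ∘ g), ((hg.mono hRW).comp hGM hgin).comp hg' hQW, fun r hr => ?_,
    fun w hw => ?_⟩
  · rw [Function.comp_apply, Function.comp_apply, hGQ _ (hgi.mem (hRQ₀ hr)), hxg r (hRQ₀ hr),
      hg'e _ (le_normalizerIn_self hQ₀S (autMap_mem δ (hRQ₀ hr))), hδR r hr]
  · rw [Function.comp_apply, Function.comp_apply, hGW _ (hgW.le ⟨w, hw, rfl⟩), hg'e w (hWN₀ hw)]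

/-- The maps of a component of `D` extending fixing `W ∩ T` extend fixing `W`. -/
theorem fixes_step (hS : IsPGroup p S) (hF : F.IsSaturated p) {D : FusionSystem T}
    (hD : D.IsNormalIn F p) {C : FusionSystem U} (hC : C.IsSubnormalIn D p) (hCq : C.Quasisimple p)
    (hQ : F.StronglyClosed Q) (ih : ∀ P f, IsMap C P f → Fixes D (Q ⊓ T) P f)
    {P : Subgroup Ω} {f : Ω → Ω} (hf : IsMap C P f) : Fixes F Q P f := by
  have hDsub : D.IsSubsystemOf F := hD.1.2.2.1
  have hT := hD.1.2.2.2.1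
  haveI : Finite T := finite_of_le hT.1
  have hCD := subnormal_sub hC
  have hUT : U ≤ T := (isMap_of_sub hCD (isMap_id C le_rfl)).le
  have hUS : U ≤ S := hUT.trans hT.1
  haveI : Finite U := finite_of_le hUS
  have hUp : IsPGroup p U := hS.to_le hUS
  have hQS := hQ.1
  haveI : Finite Q := finite_of_le hQS
  -- the automorphisms extending while fixing `Q`
  have hFmul : ∀ {R : Subgroup Ω} {a b : MulAut R}, Fixes F Q R (autMap a) → Fixes F Q R (autMap b) →
      Fixes F Q R (autMap (a * b)) := by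
    rintro R a b ⟨g₁, hg₁, he₁, hf₁⟩ ⟨g₂, hg₂, he₂, hf₂⟩
    refine ⟨g₁ ∘ g₂, hg₂.comp hg₁ fun y hy => hg₂.mapsTo_sup
      (fun x hx => Subgroup.mem_sup_left ((he₂ x hx).symm ▸ autMap_mem b hx))
      (fun q hq => Subgroup.mem_sup_right ((hf₂ q hq).symm ▸ hq)) hy, fun x hx => ?_, fun q hq => ?_⟩
    · rw [Function.comp_apply, he₂ x hx, he₁ _ (autMap_mem b hx), autMap_mul _ _ hx]
    · rw [Function.comp_apply, hf₂ q hq, hf₁ q hq]
  have hFone : ∀ {R : Subgroup Ω}, R ≤ U → Fixes F Q R (autMap (1 : MulAut R)) := fun {R} hR =>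
    ⟨id, isMap_id F (sup_le (hR.trans hUS) hQS), fun x hx => (FusionSys.autMap_one hx).symm,
      fun q _ => rfl⟩
  have hFpow : ∀ {R : Subgroup Ω}, R ≤ U → ∀ {a : MulAut R}, Fixes F Q R (autMap a) → ∀ j : ℕ,
      Fixes F Q R (autMap (a ^ j)) := fun {R} hR {a} ha j => by
    induction j with
    | zero => rw [pow_zero]; exact hFone hR
    | succ j ihj => rw [pow_succ]; exact hFmul ihj ha
  have hprime : ∀ R ≤ U, ∀ α : C.autGroup R, (orderOf α).Coprime p →
      Fixes F Q R (autMap (α : MulAut R)) := fun R hRU α hco => by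
    haveI := finite_of_le (hRU.trans hUS)
    haveI := finite_autGroup C hRU
    obtain ⟨g₁, hg₁, he₁, hfix₁⟩ := ih R _ (autGroup_set_subgroup hRU α.2)
    exact fixes_of_inner hS hF hD hQ (hRU.trans hUT) hg₁
      (fun x hx => (he₁ x hx).symm ▸ autMap_mem _ hx) hfix₁ he₁
      (by rwa [Subgroup.orderOf_coe])
  let fixAut : ∀ R ≤ U, Subgroup (C.autGroup R) := fun R hR =>
    { carrier := {α | Fixes F Q R (autMap (α : MulAut R))}
      one_mem' := hFone hR
      mul_mem' := fun ha hb => hFmul ha hb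
      inv_mem' := fun {a} ha => by
        haveI := finite_autGroup C hR
        have h : a⁻¹ = a ^ (orderOf a - 1) := inv_eq_of_mul_eq_one_right (by
          rw [← pow_succ', Nat.sub_add_cancel (orderOf_pos a), pow_orderOf_eq_one])
        show Fixes F Q R (autMap ((a⁻¹ : C.autGroup R) : MulAut R))
        rw [h, SubgroupClass.coe_pow]
        exact hFpow hR ha _ }
  have hres : ∀ R (hR : R ≤ U), pResidual p (C.autGroup R) ≤ fixAut R hR := fun R hR =>
    Cores.pResidual_le fun g hg => hprime R hR g hg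
  have hcent : U ≤ centralizerIn S Q := by
    intro y hy
    rw [← hCq.2.1] at hy
    refine (Subgroup.closure_le _).2 ?_ hy
    rintro _ ⟨R, α, x, hR, hα, rfl⟩
    obtain ⟨g, hg, hge, hgQ⟩ : Fixes F Q R (autMap (α : MulAut R)) := hres R hR hα
    rw [← autMap_coe]
    have hxS : (x : Ω) ∈ S := hUS (hR x.2)
    have hαS : autMap (α : MulAut R) x ∈ S := hUS (hR (autMap_mem _ x.2))
    refine FusionSys.mem_centralizerIn.2 ⟨S.mul_mem (S.inv_mem hxS) hαS, fun q hq => ?_⟩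
    have hq' : (x : Ω) * q * (x : Ω)⁻¹ ∈ Q := conj_mem_closed hQ hxS hq
    have h3 := hg.map_conj (Subgroup.mem_sup_left x.2) (Subgroup.mem_sup_right hq)
    rw [hgQ _ hq', hgQ q hq, hge _ x.2] at h3
    calc q * ((x : Ω)⁻¹ * autMap (α : MulAut R) x)
        = (x : Ω)⁻¹ * ((x : Ω) * q * (x : Ω)⁻¹) * autMap (α : MulAut R) x := by group
      _ = _ := by rw [h3]; group
  have hconj : ∀ R ≤ U, ∀ a ∈ U, Fixes F Q R (conjMap a) := fun R hR a ha =>
    ⟨conjMap a, isMap_conj F (sup_le (hR.trans hUS) hQS) (hUS ha), fun _ _ => rfl, fun q hq => by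
      rw [conjMap_apply, ← (FusionSys.mem_centralizerIn.1 (hcent ha)).2 q hq, mul_inv_cancel_right]⟩
  let G : FusionSystem U := subSys C (fun P f => Fixes F Q P f)
    (fun P f g ⟨k, hk, hke, hkq⟩ he => ⟨k, hk, fun x hx => (hke x hx).trans (he x hx).symm, hkq⟩)
    (fun P a hP ha => hconj P hP a ha)
    (fun P R f g _ _ hm ⟨k₁, hk₁, he₁, hf₁⟩ ⟨k₂, hk₂, he₂, hf₂⟩ =>
      ⟨k₂ ∘ k₁, hk₁.comp hk₂ fun y hy => hk₁.mapsTo_sup
        (fun x hx => Subgroup.mem_sup_left ((he₁ x hx).symm ▸ hm x hx))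
        (fun q hq => Subgroup.mem_sup_right ((hf₁ q hq).symm ▸ hq)) hy,
        fun x hx => by rw [Function.comp_apply, he₁ x hx, he₂ _ (hm x hx), Function.comp_apply],
        fun q hq => by rw [Function.comp_apply, hf₁ q hq, hf₂ q hq]⟩)
    (fun P R f g hi _ hgf ⟨k, hk, he, hkq⟩ => by
      obtain ⟨k', hk', hk'e⟩ := hk.exists_inv
      have hle : R ⊔ Q ≤ imgSub k (P ⊔ Q) := sup_le
        (fun y hy => by
          obtain ⟨x, hx, rfl⟩ := hi.exists_preimage hy
          exact hk.mem_imgSub.2 ⟨x, Subgroup.mem_sup_left hx, he x hx⟩)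
        (fun y hy => hk.mem_imgSub.2 ⟨y, Subgroup.mem_sup_right hy, hkq y hy⟩)
      refine ⟨k', hk'.mono hle, fun y hy => ?_, fun y hy => ?_⟩
      · obtain ⟨x, hx, rfl⟩ := hi.exists_preimage hy
        rw [← he x hx, hk'e x (Subgroup.mem_sup_left hx), he x hx, hgf x hx]
      · nth_rw 1 [← hkq y hy]
        exact hk'e y (Subgroup.mem_sup_right hy))
  have hle : C ≤ G := le_of_autGroup_fullyNormalized hUp hCq.1 fun R hRn _ α hα => by
    have hRU := hRn.1
    haveI := finite_autGroup C hRU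
    obtain ⟨-, Sy, hSy⟩ := isFullyAutomized_of_isFullyNormalized hUp hCq.1 hRn
    have h2 : (Sy : Subgroup (C.autGroup R)) ≤ fixAut R hRU := by
      intro β hβ
      rw [hSy] at hβ
      obtain ⟨s, hs, hsn, hse⟩ := mem_autInducedBy.1 (Subgroup.mem_subgroupOf.1 hβ)
      obtain ⟨g, hg, hge, hgQ⟩ := hconj R hRU s hs
      exact ⟨g, hg, fun x hx => by
        rw [hge x hx, show (β : MulAut R) = conjAut hsn from hse, autMap_conjAut hsn hx], hgQ⟩
    obtain ⟨k, hk⟩ := Cores.exists_index_pResidual_eq_pow (G := C.autGroup R) (p := p)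
    obtain ⟨j, -, hj⟩ := (Nat.dvd_prime_pow (Fact.out : p.Prime)).1
      (hk ▸ Subgroup.index_dvd_of_le (hres R hRU))
    have htop : fixAut R hRU = ⊤ := by
      rw [← Subgroup.index_eq_one, hj]
      rcases Nat.eq_zero_or_pos j with rfl | hjpos
      · rw [pow_zero]
      · exact absurd ((dvd_pow_self p hjpos.ne').trans (hj ▸ Subgroup.index_dvd_of_le h2))
          Sy.not_dvd_index
    have hfix : Fixes F Q R (autMap α) := htop.ge (Subgroup.mem_top (⟨α, hα⟩ : C.autGroup R))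
    obtain ⟨φ, hφ, hφe⟩ := (mem_autGroup_iff hRU).1 hα
    obtain ⟨g, hg, hge, hgQ⟩ := hfix
    exact mem_autGroup_of_isMap ⟨φ, ⟨hφ, g, hg, fun x hx => by
      rw [hge x hx, homFun_mem φ hx]; exact (hφe ⟨x, hx⟩).symm, hgQ⟩, hφe⟩
  obtain ⟨φ, ⟨-, g, hg, hge, hgQ⟩, hφe⟩ := le_iff_isMap.1 hle P f hf
  exact ⟨g, hg, fun x hx => by rw [hge x hx, homFun_mem φ hx]; exact hφe ⟨x, hx⟩, hgQ⟩

end Cfsg.Agent.Signalizer.FusComp
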